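import Cfsg.Agent.H598.F4.NumFull

/-!
# S2452, F4(q), q = 9, 11, 13: the possible degrees, full range (helper598)

`d` divides `|F4(q)|`, `d ^ 2 ≤ |F4(q)|`, `d ≡ ±1` modulo `q ^ 4 - q ^ 2 + 1` and modulo `(q ^ 4 + 1) / 2`: then `d` is `1`,
`q ^ 12`, `q ^ 24`, `D2 q` or `D3 q`.

The divisors are enumerated without their powers of `p`: `d' ^ t ≡ 1` modulo `m`, where `p ^ t ≡ 1` modulo `m`.
-/

set_option autoImplicit false

namespace Cfsg.Agent.H598.F4.Num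

open Cfsg.Agent.H653.Sieve

/-- the test for the part prime to `p` -/
def leafP (p B k m n x y t : ℕ) (l₁ l₂ l₃ : List ℕ) (d : ℕ) : Bool :=
  bif Nat.beq (Nat.mod (Nat.pow d t) m) 1 then allPow B (tstL B m n x y l₁ l₂ l₃) p k d else true

theorem pow_mod_one_of {p m t i x : ℕ} (hm : 2 < m) (ht : Nat.mod (Nat.pow p t) m = 1) (hte : Even t) {a : ℤ}
    (ha : a = 1 ∨ a = -1) (h1 : (m : ℤ) ∣ ((x * p ^ i : ℕ) : ℤ) - a) : Nat.mod (Nat.pow x t) m = 1 := by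
  show x ^ t % m = 1
  have ht' : (p : ℤ) ^ t ≡ 1 [ZMOD m] := by
    have h2 : p ^ t ≡ 1 [MOD m] := by
      show p ^ t % m = 1 % m
      rw [Nat.mod_eq_of_lt (show 1 < m by omega)]
      exact ht
    exact_mod_cast (Int.natCast_modEq_iff.2 h2)
  have h3 : ((x : ℤ) * (p : ℤ) ^ i) ≡ a [ZMOD m] := by
    refine (Int.modEq_iff_dvd.2 ?_).symm
    push_cast at h1
    exact h1
  have h4 : ((x : ℤ) * (p : ℤ) ^ i) ^ t ≡ a ^ t [ZMOD m] := h3.pow t
  have h5 : a ^ t = 1 := by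
    rcases ha with rfl | rfl
    · exact one_pow t
    · exact hte.neg_one_pow
  have h6 : ((p : ℤ) ^ i) ^ t ≡ 1 [ZMOD m] := by
    have := ht'.pow i
    rw [one_pow] at this
    rwa [← pow_mul, mul_comm i t, pow_mul]
  have h7 : (x : ℤ) ^ t ≡ 1 [ZMOD m] := by
    calc (x : ℤ) ^ t = (x : ℤ) ^ t * 1 := (mul_one _).symm
      _ ≡ (x : ℤ) ^ t * ((p : ℤ) ^ i) ^ t [ZMOD m] := h6.symm.mul_left _
      _ = ((x : ℤ) * (p : ℤ) ^ i) ^ t := (mul_pow _ _ _).symm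
      _ ≡ a ^ t [ZMOD m] := h4
      _ = 1 := h5
  have h8 : x ^ t ≡ 1 [MOD m] := by
    have : ((x ^ t : ℕ) : ℤ) ≡ ((1 : ℕ) : ℤ) [ZMOD m] := by exact_mod_cast h7
    exact Int.natCast_modEq_iff.1 this
  have h9 : x ^ t % m = 1 % m := h8
  rwa [Nat.mod_eq_of_lt (show 1 < m by omega)] at h9

theorem leafP_spec {p : ℕ} (hp : p.Prime) {B k m n t : ℕ} {l₁ l₂ l₃ : List ℕ} (hm : 2 < m) (hn : 2 < n)
    (ht : Nat.mod (Nat.pow p t) m = 1) (hte : Even t) {x i : ℕ} (hi : i ≤ k)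
    (hc : leafP p B k m n (m - 1) (n - 1) t l₁ l₂ l₃ x = true)
    {a b : ℤ} (ha : a = 1 ∨ a = -1) (hb : b = 1 ∨ b = -1) (h1 : (m : ℤ) ∣ ((x * p ^ i : ℕ) : ℤ) - a)
    (h2 : (n : ℤ) ∣ ((x * p ^ i : ℕ) : ℤ) - b) (hB : (x * p ^ i) * (x * p ^ i) < B) :
    (x * p ^ i ∈ l₁ ∧ a = 1 ∧ b = 1) ∨ (x * p ^ i ∈ l₂ ∧ a = 1 ∧ b = -1) ∨ (x * p ^ i ∈ l₃ ∧ a = -1 ∧ b = 1) := by
  have h3 := pow_mod_one_of hm ht hte ha h1
  have e : Nat.beq 1 1 = true := rfl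
  rw [leafP, h3, e, cond_true] at hc
  exact tstL_spec hm hn (allPow_spec hp.pos hc i hi hB) ha hb h1 h2 hB

/-- **The general lemma.** -/
theorem keyP {p : ℕ} (hp : p.Prime) {N B k m n t : ℕ} {l₁ l₂ l₃ : List ℕ} {L : List (ℕ × ℕ)} (hL : ∀ pa ∈ L, pa.1.Prime)
    (hN : N = (p ^ k * facProd L) * (m * n)) (hm : 2 < m) (hn : 2 < n)
    (ht : Nat.mod (Nat.pow p t) m = 1) (hte : Even t)
    (hc : allDiv B (leafP p B k m n (m - 1) (n - 1) t l₁ l₂ l₃) L 1 = true) {d : ℕ} (hd : d ∣ N)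
    {a b : ℤ} (ha : a = 1 ∨ a = -1) (hb : b = 1 ∨ b = -1) (h1 : (m : ℤ) ∣ (d : ℤ) - a) (h2 : (n : ℤ) ∣ (d : ℤ) - b)
    (hB : d * d < B) : (d ∈ l₁ ∧ a = 1 ∧ b = 1) ∨ (d ∈ l₂ ∧ a = 1 ∧ b = -1) ∨ (d ∈ l₃ ∧ a = -1 ∧ b = 1) := by
  have hd' : d ∣ p ^ k * facProd L := by
    rw [hN] at hd
    exact ((coprime_of ha h1).mul_right (coprime_of hb h2)).dvd_of_dvd_mul_right hd
  obtain ⟨x, y, hx, hy, rfl⟩ := (Nat.dvd_mul).1 hd'
  obtain ⟨i, hi, rfl⟩ := (Nat.dvd_prime_pow hp).1 hx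
  rw [mul_comm (p ^ i) y] at h1 h2 hB ⊢
  have hle : y ≤ y * p ^ i := Nat.le_mul_of_pos_right y (Nat.pow_pos hp.pos)
  have h3 := allDiv_spec hL hc y hy (by
    rw [one_mul]
    exact lt_of_le_of_lt (Nat.mul_le_mul hle hle) hB)
  rw [one_mul] at h3
  exact leafP_spec hp hm hn ht hte hi h3 ha hb h1 h2 hB

/-! ### `q = 9` -/

def L9 : List (ℕ × ℕ) := [(2, 19), (5, 4), (7, 2), (13, 2), (41, 2), (73, 2)]

theorem check_nine : allDiv 41230123118717127397065458335142198509911736320001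
    (leafP 3 41230123118717127397065458335142198509911736320001 48 6481 3281 6480 3280 24 [1, 79766443076872509863361] [282429536481, 2964821144463360000] [915069976329600]) L9 1 = true := by
  decide +kernel

theorem num_full_nine {d : ℕ} (hd : d ∣ ordF 9) {a b : ℤ} (ha : a = 1 ∨ a = -1) (hb : b = 1 ∨ b = -1)
    (h1 : ((9 ^ 4 - 9 ^ 2 + 1 : ℕ) : ℤ) ∣ (d : ℤ) - a) (h2 : (((9 ^ 4 + 1) / 2 : ℕ) : ℤ) ∣ (d : ℤ) - b)
    (hK : d * d ≤ ordF 9) :
    (d = 1 ∧ a = 1 ∧ b = 1) ∨ (d = 9 ^ 12 ∧ a = 1 ∧ b = -1) ∨ (d = D2 9 ∧ a = -1 ∧ b = 1) ∨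
      (d = D3 9 ∧ a = 1 ∧ b = -1) ∨ (d = 9 ^ 24 ∧ a = 1 ∧ b = 1) := by
  have e1 : ordF 9 = (3 ^ 48 * facProd L9) * (6481 * 3281) := by decide +kernel
  have e2 : ordF 9 + 1 = 41230123118717127397065458335142198509911736320001 := by decide +kernel
  have e3 : D2 9 = 915069976329600 := by decide +kernel
  have e4 : (9 : ℕ) ^ 12 = 282429536481 := by norm_num
  have e5 : D3 9 = 2964821144463360000 := by decide +kernel
  have e6 : (9 : ℕ) ^ 24 = 79766443076872509863361 := by norm_num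
  rw [e3, e4, e5, e6]
  have h := keyP (p := 3) (by norm_num) (m := 6481) (n := 3281) (L := L9) (t := 24) (by
    intro pa hpa
    fin_cases hpa <;> norm_num) e1 (by norm_num) (by norm_num) (by decide +kernel) ⟨12, by norm_num⟩ check_nine hd ha hb
    (by exact_mod_cast h1) (by exact_mod_cast h2) (by omega)
  simp only [List.mem_cons, List.not_mem_nil, or_false] at h
  tauto

/-! ### `q = 11` -/

def L11 : List (ℕ × ℕ) := [(2, 15), (3, 6), (5, 4), (7, 2), (19, 2), (37, 2), (61, 2)]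

theorem check_eleven : allDiv 1408689432815341818839703191986466680454274144030720001
    (leafP 11 1408689432815341818839703191986466680454274144030720001 24 14521 7321 14520 7320 12 [1, 9849732675807611094711841] [3138428376721, 165418840759455360000] [22784977153461600]) L11 1 = true := by
  decide +kernel

theorem num_full_eleven {d : ℕ} (hd : d ∣ ordF 11) {a b : ℤ} (ha : a = 1 ∨ a = -1) (hb : b = 1 ∨ b = -1)
    (h1 : ((11 ^ 4 - 11 ^ 2 + 1 : ℕ) : ℤ) ∣ (d : ℤ) - a) (h2 : (((11 ^ 4 + 1) / 2 : ℕ) : ℤ) ∣ (d : ℤ) - b)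
    (hK : d * d ≤ ordF 11) :
    (d = 1 ∧ a = 1 ∧ b = 1) ∨ (d = 11 ^ 12 ∧ a = 1 ∧ b = -1) ∨ (d = D2 11 ∧ a = -1 ∧ b = 1) ∨
      (d = D3 11 ∧ a = 1 ∧ b = -1) ∨ (d = 11 ^ 24 ∧ a = 1 ∧ b = 1) := by
  have e1 : ordF 11 = (11 ^ 24 * facProd L11) * (14521 * 7321) := by decide +kernel
  have e2 : ordF 11 + 1 = 1408689432815341818839703191986466680454274144030720001 := by decide +kernel
  have e3 : D2 11 = 22784977153461600 := by decide +kernel
  have e4 : (11 : ℕ) ^ 12 = 3138428376721 := by norm_num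
  have e5 : D3 11 = 165418840759455360000 := by decide +kernel
  have e6 : (11 : ℕ) ^ 24 = 9849732675807611094711841 := by norm_num
  rw [e3, e4, e5, e6]
  have h := keyP (p := 11) (by norm_num) (m := 14521) (n := 7321) (L := L11) (t := 12) (by
    intro pa hpa
    fin_cases hpa <;> norm_num) e1 (by norm_num) (by norm_num) (by decide +kernel) ⟨6, by norm_num⟩ check_eleven hd ha hb
    (by exact_mod_cast h1) (by exact_mod_cast h2) (by omega)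
  simp only [List.mem_cons, List.not_mem_nil, or_false] at h
  tauto

/-! ### `q = 13` -/

def L13 : List (ℕ × ℕ) := [(2, 15), (3, 6), (5, 2), (7, 4), (17, 2), (61, 2), (157, 2)]

theorem check_thirteen : allDiv 8365209202721401593167519128948866094943100320359167590401
    (leafP 13 8365209202721401593167519128948866094943100320359167590401 24 28393 14281 28392 14280 12 [1, 542800770374370512771595361] [23298085122481, 4695177648937681511424] [330739547877359712]) L13 1 = true := by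
  decide +kernel

theorem num_full_thirteen {d : ℕ} (hd : d ∣ ordF 13) {a b : ℤ} (ha : a = 1 ∨ a = -1) (hb : b = 1 ∨ b = -1)
    (h1 : ((13 ^ 4 - 13 ^ 2 + 1 : ℕ) : ℤ) ∣ (d : ℤ) - a) (h2 : (((13 ^ 4 + 1) / 2 : ℕ) : ℤ) ∣ (d : ℤ) - b)
    (hK : d * d ≤ ordF 13) :
    (d = 1 ∧ a = 1 ∧ b = 1) ∨ (d = 13 ^ 12 ∧ a = 1 ∧ b = -1) ∨ (d = D2 13 ∧ a = -1 ∧ b = 1) ∨
      (d = D3 13 ∧ a = 1 ∧ b = -1) ∨ (d = 13 ^ 24 ∧ a = 1 ∧ b = 1) := by
  have e1 : ordF 13 = (13 ^ 24 * facProd L13) * (28393 * 14281) := by decide +kernel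
  have e2 : ordF 13 + 1 = 8365209202721401593167519128948866094943100320359167590401 := by decide +kernel
  have e3 : D2 13 = 330739547877359712 := by decide +kernel
  have e4 : (13 : ℕ) ^ 12 = 23298085122481 := by norm_num
  have e5 : D3 13 = 4695177648937681511424 := by decide +kernel
  have e6 : (13 : ℕ) ^ 24 = 542800770374370512771595361 := by norm_num
  rw [e3, e4, e5, e6]
  have h := keyP (p := 13) (by norm_num) (m := 28393) (n := 14281) (L := L13) (t := 12) (by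
    intro pa hpa
    fin_cases hpa <;> norm_num) e1 (by norm_num) (by norm_num) (by decide +kernel) ⟨6, by norm_num⟩ check_thirteen hd ha hb
    (by exact_mod_cast h1) (by exact_mod_cast h2) (by omega)
  simp only [List.mem_cons, List.not_mem_nil, or_false] at h
  tauto

/-- **The three fields together, exact form.** -/
theorem num_full_list {q : ℕ} (hq : q = 9 ∨ q = 11 ∨ q = 13) {d : ℕ} (hd : d ∣ ordF q) {a b : ℤ}
    (ha : a = 1 ∨ a = -1) (hb : b = 1 ∨ b = -1) (h1 : ((q ^ 4 - q ^ 2 + 1 : ℕ) : ℤ) ∣ (d : ℤ) - a)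
    (h2 : (((q ^ 4 + 1) / 2 : ℕ) : ℤ) ∣ (d : ℤ) - b) (hK : d * d ≤ ordF q) :
    (d = 1 ∧ a = 1 ∧ b = 1) ∨ (d = q ^ 12 ∧ a = 1 ∧ b = -1) ∨ (d = D2 q ∧ a = -1 ∧ b = 1) ∨
      (d = D3 q ∧ a = 1 ∧ b = -1) ∨ (d = q ^ 24 ∧ a = 1 ∧ b = 1) := by
  rcases hq with rfl | rfl | rfl
  · exact num_full_nine hd ha hb h1 h2 hK
  · exact num_full_eleven hd ha hb h1 h2 hK
  · exact num_full_thirteen hd ha hb h1 h2 hK

/-- **The three fields together, the form of `num_full`.** -/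
theorem num_full_odd {q : ℕ} (hq : q = 9 ∨ q = 11 ∨ q = 13) {d : ℕ} (hd : d ∣ ordF q) {a b : ℤ}
    (ha : a = 1 ∨ a = -1) (hb : b = 1 ∨ b = -1) (h1 : ((q ^ 4 - q ^ 2 + 1 : ℕ) : ℤ) ∣ (d : ℤ) - a)
    (h2 : (((q ^ 4 + 1) / 2 : ℕ) : ℤ) ∣ (d : ℤ) - b) (hK : d * d ≤ ordF q) :
    (d = 1 ∧ a = 1 ∧ b = 1) ∨ d = q ^ 12 ∨ (a * b = -1 ∧ D2 q ≤ d) ∨ (d = q ^ 24 ∧ a = 1 ∧ b = 1) := by
  have e : D2 q ≤ D3 q := by
    rcases hq with rfl | rfl | rfl <;> decide +kernel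
  rcases num_full_list hq hd ha hb h1 h2 hK with h | h | h | h | h
  · exact Or.inl h
  · exact Or.inr (Or.inl h.1)
  · exact Or.inr (Or.inr (Or.inl ⟨by rw [h.2.1, h.2.2]; norm_num, h.1.ge⟩))
  · exact Or.inr (Or.inr (Or.inl ⟨by rw [h.2.1, h.2.2]; norm_num, h.1.symm ▸ e⟩))
  · exact Or.inr (Or.inr (Or.inr h))

end Cfsg.Agent.H598.F4.Num
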