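import Cfsg.Agent.H598.F4.Num

/-!
# S2464, F4(17) : the possible small degrees, and the three fields together (helper598)
-/

set_option autoImplicit false

namespace Cfsg.Agent.H598.F4.Num

open Cfsg.Agent.H653.Sieve

/-- the bound -/
def B17 : ℕ := 1182501899831743818198342722091525178925383681

def L17 : List (ℕ × ℕ) := [(3, 10), (5, 2), (7, 2), (13, 2), (17, 24), (29, 2), (307, 2)]

def f17 (d : ℕ) : Bool :=
  tst 1182501899831743818198342722091525178925383681 83233 41761 83232 41760 582622237229761 24246406020044662272 d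

theorem check_0 : allDiv 1182501899831743818198342722091525178925383681 f17
    [(3, 10), (5, 2), (7, 2), (13, 2), (17, 24), (29, 2), (307, 2)] 1 = true := by decide +kernel

theorem check_1 : allDiv 1182501899831743818198342722091525178925383681 f17
    [(3, 10), (5, 2), (7, 2), (13, 2), (17, 24), (29, 2), (307, 2)] 2 = true := by decide +kernel

theorem check_2 : allDiv 1182501899831743818198342722091525178925383681 f17
    [(3, 10), (5, 2), (7, 2), (13, 2), (17, 24), (29, 2), (307, 2)] 4 = true := by decide +kernel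

theorem check_3 : allDiv 1182501899831743818198342722091525178925383681 f17
    [(3, 10), (5, 2), (7, 2), (13, 2), (17, 24), (29, 2), (307, 2)] 8 = true := by decide +kernel

theorem check_4 : allDiv 1182501899831743818198342722091525178925383681 f17
    [(3, 10), (5, 2), (7, 2), (13, 2), (17, 24), (29, 2), (307, 2)] 16 = true := by decide +kernel

theorem check_5 : allDiv 1182501899831743818198342722091525178925383681 f17
    [(3, 10), (5, 2), (7, 2), (13, 2), (17, 24), (29, 2), (307, 2)] 32 = true := by decide +kernel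

theorem check_6 : allDiv 1182501899831743818198342722091525178925383681 f17
    [(3, 10), (5, 2), (7, 2), (13, 2), (17, 24), (29, 2), (307, 2)] 64 = true := by decide +kernel

theorem check_7 : allDiv 1182501899831743818198342722091525178925383681 f17
    [(3, 10), (5, 2), (7, 2), (13, 2), (17, 24), (29, 2), (307, 2)] 128 = true := by decide +kernel

theorem check_8 : allDiv 1182501899831743818198342722091525178925383681 f17
    [(3, 10), (5, 2), (7, 2), (13, 2), (17, 24), (29, 2), (307, 2)] 256 = true := by decide +kernel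

theorem check_9 : allDiv 1182501899831743818198342722091525178925383681 f17
    [(3, 10), (5, 2), (7, 2), (13, 2), (17, 24), (29, 2), (307, 2)] 512 = true := by decide +kernel

theorem check_10 : allDiv 1182501899831743818198342722091525178925383681 f17
    [(3, 10), (5, 2), (7, 2), (13, 2), (17, 24), (29, 2), (307, 2)] 1024 = true := by decide +kernel

theorem check_11 : allDiv 1182501899831743818198342722091525178925383681 f17
    [(3, 10), (5, 2), (7, 2), (13, 2), (17, 24), (29, 2), (307, 2)] 2048 = true := by decide +kernel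

theorem check_12 : allDiv 1182501899831743818198342722091525178925383681 f17
    [(3, 10), (5, 2), (7, 2), (13, 2), (17, 24), (29, 2), (307, 2)] 4096 = true := by decide +kernel

theorem check_13 : allDiv 1182501899831743818198342722091525178925383681 f17
    [(3, 10), (5, 2), (7, 2), (13, 2), (17, 24), (29, 2), (307, 2)] 8192 = true := by decide +kernel

theorem check_14 : allDiv 1182501899831743818198342722091525178925383681 f17
    [(3, 10), (5, 2), (7, 2), (13, 2), (17, 24), (29, 2), (307, 2)] 16384 = true := by decide +kernel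

theorem check_15 : allDiv 1182501899831743818198342722091525178925383681 f17
    [(3, 10), (5, 2), (7, 2), (13, 2), (17, 24), (29, 2), (307, 2)] 32768 = true := by decide +kernel

theorem check_16 : allDiv 1182501899831743818198342722091525178925383681 f17
    [(3, 10), (5, 2), (7, 2), (13, 2), (17, 24), (29, 2), (307, 2)] 65536 = true := by decide +kernel

theorem check_17 : allDiv 1182501899831743818198342722091525178925383681 f17
    [(3, 10), (5, 2), (7, 2), (13, 2), (17, 24), (29, 2), (307, 2)] 131072 = true := by decide +kernel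

theorem check_18 : allDiv 1182501899831743818198342722091525178925383681 f17
    [(3, 10), (5, 2), (7, 2), (13, 2), (17, 24), (29, 2), (307, 2)] 262144 = true := by decide +kernel

theorem check_19 : allDiv 1182501899831743818198342722091525178925383681 f17
    [(3, 10), (5, 2), (7, 2), (13, 2), (17, 24), (29, 2), (307, 2)] 524288 = true := by decide +kernel

theorem check_20 : allDiv 1182501899831743818198342722091525178925383681 f17
    [(3, 10), (5, 2), (7, 2), (13, 2), (17, 24), (29, 2), (307, 2)] 1048576 = true := by decide +kernel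

theorem check_21 : allDiv 1182501899831743818198342722091525178925383681 f17
    [(3, 10), (5, 2), (7, 2), (13, 2), (17, 24), (29, 2), (307, 2)] 2097152 = true := by decide +kernel

theorem check_22 : allDiv 1182501899831743818198342722091525178925383681 f17
    [(3, 10), (5, 2), (7, 2), (13, 2), (17, 24), (29, 2), (307, 2)] 4194304 = true := by decide +kernel

theorem check_23 : allDiv 1182501899831743818198342722091525178925383681 f17
    [(3, 10), (5, 2), (7, 2), (13, 2), (17, 24), (29, 2), (307, 2)] 8388608 = true := by decide +kernel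

theorem check_all : ∀ i ≤ 23, allDiv B17 f17 L17 (2 ^ i) = true := by
  intro i hi
  interval_cases i
  · exact check_0
  · exact check_1
  · exact check_2
  · exact check_3
  · exact check_4
  · exact check_5
  · exact check_6
  · exact check_7
  · exact check_8
  · exact check_9
  · exact check_10
  · exact check_11
  · exact check_12
  · exact check_13
  · exact check_14
  · exact check_15
  · exact check_16
  · exact check_17
  · exact check_18
  · exact check_19
  · exact check_20
  · exact check_21
  · exact check_22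
  · exact check_23

/-- the general lemma with the powers of two split off -/
theorem key' {N B k m n z w : ℕ} {L : List (ℕ × ℕ)} (hL : ∀ pa ∈ L, pa.1.Prime)
    (hN : N = (2 ^ k * facProd L) * (m * n)) (hm : 2 < m) (hn : 2 < n)
    (hc : ∀ i ≤ k, allDiv B (fun d => tst B m n (m - 1) (n - 1) z w d) L (2 ^ i) = true) {d : ℕ} (hd : d ∣ N)
    {a b : ℤ} (ha : a = 1 ∨ a = -1) (hb : b = 1 ∨ b = -1) (h1 : (m : ℤ) ∣ (d : ℤ) - a) (h2 : (n : ℤ) ∣ (d : ℤ) - b)
    (hB : d * d < B) : (d = 1 ∧ a = 1 ∧ b = 1) ∨ (d = z ∧ a = 1 ∧ b = -1) ∨ (d = w ∧ a = -1 ∧ b = 1) := by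
  have hd' : d ∣ 2 ^ k * facProd L := by
    rw [hN] at hd
    exact ((coprime_of ha h1).mul_right (coprime_of hb h2)).dvd_of_dvd_mul_right hd
  obtain ⟨x, y, hx, hy, rfl⟩ := (Nat.dvd_mul).1 hd'
  obtain ⟨i, hi, rfl⟩ := (Nat.dvd_prime_pow Nat.prime_two).1 hx
  have h3 := allDiv_spec hL (hc i hi) y hy hB
  exact tst_spec hm hn h3 ha hb h1 h2 hB

theorem num_seventeen {d : ℕ} (hd : d ∣ ordF 17) {a b : ℤ} (ha : a = 1 ∨ a = -1) (hb : b = 1 ∨ b = -1)
    (h1 : ((17 ^ 4 - 17 ^ 2 + 1 : ℕ) : ℤ) ∣ (d : ℤ) - a) (h2 : (((17 ^ 4 + 1) / 2 : ℕ) : ℤ) ∣ (d : ℤ) - b)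
    (hK : d * d ≤ 6 * cenL 17) :
    (d = 1 ∧ a = 1 ∧ b = 1) ∨ (d = 17 ^ 12 ∧ a = 1 ∧ b = -1) ∨ (d = D2 17 ∧ a = -1 ∧ b = 1) := by
  have e1 : ordF 17 = (2 ^ 23 * facProd L17) * (83233 * 41761) := by decide +kernel
  have e2 : 6 * cenL 17 + 1 = B17 := by decide +kernel
  have e3 : D2 17 = 24246406020044662272 := by decide +kernel
  have e4 : (17 : ℕ) ^ 12 = 582622237229761 := by norm_num
  rw [e3, e4]
  refine key' (m := 83233) (n := 41761) (L := L17) (by
    intro pa hpa
    fin_cases hpa <;> norm_num) e1 (by norm_num) (by norm_num) check_all hd ha hb (by exact_mod_cast h1)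
    (by exact_mod_cast h2) (by omega)

/-- **The three fields together.** -/
theorem num {q : ℕ} (hq : q = 5 ∨ q = 7 ∨ q = 17) {d : ℕ} (hd : d ∣ ordF q) {a b : ℤ} (ha : a = 1 ∨ a = -1)
    (hb : b = 1 ∨ b = -1) (h1 : ((q ^ 4 - q ^ 2 + 1 : ℕ) : ℤ) ∣ (d : ℤ) - a)
    (h2 : (((q ^ 4 + 1) / 2 : ℕ) : ℤ) ∣ (d : ℤ) - b) (hK : d * d ≤ 6 * cenL q) :
    (d = 1 ∧ a = 1 ∧ b = 1) ∨ (d = q ^ 12 ∧ a = 1 ∧ b = -1) ∨ (d = D2 q ∧ a = -1 ∧ b = 1) := by
  rcases hq with rfl | rfl | rfl
  · exact num_five hd ha hb h1 h2 hK
  · exact num_seven hd ha hb h1 h2 hK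
  · exact num_seventeen hd ha hb h1 h2 hK

end Cfsg.Agent.H598.F4.Num
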