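import Cfsg.Agent.H598.F4.Num

/-!
# S2464, F4(5), F4(7): the possible degrees, full range (helper598)

`num_full_five`, `num_full_seven` : `d` divides `|F4(q)|`, `d ^ 2 ≤ |F4(q)|`, `d ≡ ±1` modulo `q ^ 4 - q ^ 2 + 1` and modulo
`(q ^ 4 + 1) / 2`: then `d` is `1`, `q ^ 12`, `q ^ 24`, `D2 q` or `D3 q`.
-/

set_option autoImplicit false

namespace Cfsg.Agent.H598.F4.Num

open Cfsg.Agent.H653.Sieve

/-- the degree of `F4[i]` -/
def D3 (q : ℕ) : ℕ := q ^ 4 * (q ^ 2 - 1) ^ 4 * (q ^ 4 + q ^ 2 + 1) ^ 2 / 4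

/-- membership in a list -/
def mm (d : ℕ) : List ℕ → Bool
  | [] => false
  | a :: l => bif Nat.beq d a then true else mm d l

theorem mem_of_mm {d : ℕ} : ∀ {l : List ℕ}, mm d l = true → d ∈ l
  | [], h => by simp [mm] at h
  | a :: l, h => by
    rw [mm] at h
    cases h1 : Nat.beq d a
    · rw [h1, cond_false] at h
      exact List.mem_cons_of_mem _ (mem_of_mm h)
    · rw [Nat.eq_of_beq_eq_true h1]
      exact List.mem_cons_self

/-- the test with lists -/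
def tstL (N m n x y : ℕ) (l₁ l₂ l₃ : List ℕ) (d : ℕ) : Bool :=
  bif Nat.beq (Nat.mod d m) 1 then
    (bif Nat.beq (Nat.mod d n) 1 then (bif mm d l₁ then true else Nat.ble N (Nat.mul d d))
    else bif Nat.beq (Nat.mod d n) y then (bif mm d l₂ then true else Nat.ble N (Nat.mul d d)) else true)
  else bif Nat.beq (Nat.mod d m) x then
    (bif Nat.beq (Nat.mod d n) 1 then (bif mm d l₃ then true else Nat.ble N (Nat.mul d d))
    else bif Nat.beq (Nat.mod d n) y then Nat.ble N (Nat.mul d d) else true)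
  else true

theorem tstL_spec {B m n : ℕ} {l₁ l₂ l₃ : List ℕ} (hm : 2 < m) (hn : 2 < n) {d : ℕ}
    (h3 : tstL B m n (m - 1) (n - 1) l₁ l₂ l₃ d = true)
    {a b : ℤ} (ha : a = 1 ∨ a = -1) (hb : b = 1 ∨ b = -1) (h1 : (m : ℤ) ∣ (d : ℤ) - a) (h2 : (n : ℤ) ∣ (d : ℤ) - b)
    (hB : d * d < B) : (d ∈ l₁ ∧ a = 1 ∧ b = 1) ∨ (d ∈ l₂ ∧ a = 1 ∧ b = -1) ∨ (d ∈ l₃ ∧ a = -1 ∧ b = 1) := by
  have hble : Nat.ble B (Nat.mul d d) = false := by
    rw [Bool.eq_false_iff]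
    intro h4
    exact absurd (Nat.le_of_ble_eq_true h4) (Nat.not_le.2 hB)
  have hne : ∀ k : ℕ, 2 < k → Nat.beq (k - 1) 1 = false := by
    intro k hk
    rw [Bool.eq_false_iff]
    intro h4
    have := Nat.eq_of_beq_eq_true h4
    omega
  have e : Nat.beq 1 1 = true := rfl
  unfold tstL at h3
  rw [hble] at h3
  rcases ha with rfl | rfl <;> rcases hb with rfl | rfl
  · rw [mod_of_one hm h1, mod_of_one hn h2, e] at h3
    left
    refine ⟨?_, rfl, rfl⟩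
    cases h4 : mm d l₁
    · rw [h4] at h3
      simp at h3
    · exact mem_of_mm h4
  · rw [mod_of_one hm h1, mod_of_neg hn h2, hne n hn] at h3
    right; left
    refine ⟨?_, rfl, rfl⟩
    cases h4 : mm d l₂
    · rw [h4] at h3
      simp at h3
    · exact mem_of_mm h4
  · rw [mod_of_neg hm h1, mod_of_one hn h2, hne m hm] at h3
    right; right
    refine ⟨?_, rfl, rfl⟩
    cases h4 : mm d l₃
    · rw [h4] at h3
      simp at h3
    · exact mem_of_mm h4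
  · rw [mod_of_neg hm h1, mod_of_neg hn h2, hne m hm, hne n hn] at h3
    simp at h3

/-- **The general lemma with lists.** -/
theorem keyL {N B m n : ℕ} {l₁ l₂ l₃ : List ℕ} {L : List (ℕ × ℕ)} (hL : ∀ pa ∈ L, pa.1.Prime)
    (hN : N = facProd L * (m * n)) (hm : 2 < m) (hn : 2 < n)
    (hc : allDiv B (tstL B m n (m - 1) (n - 1) l₁ l₂ l₃) L 1 = true) {d : ℕ} (hd : d ∣ N)
    {a b : ℤ} (ha : a = 1 ∨ a = -1) (hb : b = 1 ∨ b = -1) (h1 : (m : ℤ) ∣ (d : ℤ) - a) (h2 : (n : ℤ) ∣ (d : ℤ) - b)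
    (hB : d * d < B) : (d ∈ l₁ ∧ a = 1 ∧ b = 1) ∨ (d ∈ l₂ ∧ a = 1 ∧ b = -1) ∨ (d ∈ l₃ ∧ a = -1 ∧ b = 1) := by
  have hd' : d ∣ facProd L := by
    rw [hN] at hd
    exact ((coprime_of ha h1).mul_right (coprime_of hb h2)).dvd_of_dvd_mul_right hd
  have h3 := allDiv_spec hL hc d hd' (by rwa [one_mul])
  rw [one_mul] at h3
  exact tstL_spec hm hn h3 ha hb h1 h2 hB

/-! ### `q = 5` -/

theorem checkF_five : allDiv 2131486317725501953125000000000000001
    (tstL 2131486317725501953125000000000000001 601 313 600 312 [1, 59604644775390625] [244140625, 21969843840000] [73237500000]) L5 1 = true := by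
  decide +kernel

theorem num_full_five {d : ℕ} (hd : d ∣ ordF 5) {a b : ℤ} (ha : a = 1 ∨ a = -1) (hb : b = 1 ∨ b = -1)
    (h1 : ((5 ^ 4 - 5 ^ 2 + 1 : ℕ) : ℤ) ∣ (d : ℤ) - a) (h2 : (((5 ^ 4 + 1) / 2 : ℕ) : ℤ) ∣ (d : ℤ) - b)
    (hK : d * d ≤ ordF 5) :
    (d = 1 ∧ a = 1 ∧ b = 1) ∨ (d = 5 ^ 12 ∧ a = 1 ∧ b = -1) ∨ (d = D2 5 ∧ a = -1 ∧ b = 1) ∨
      (d = D3 5 ∧ a = 1 ∧ b = -1) ∨ (d = 5 ^ 24 ∧ a = 1 ∧ b = 1) := by
  have e1 : ordF 5 = facProd L5 * (601 * 313) := by decide +kernel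
  have e2 : ordF 5 + 1 = 2131486317725501953125000000000000001 := by decide +kernel
  have e3 : D2 5 = 73237500000 := by decide +kernel
  have e4 : (5 : ℕ) ^ 12 = 244140625 := by norm_num
  have e5 : D3 5 = 21969843840000 := by decide +kernel
  have e6 : (5 : ℕ) ^ 24 = 59604644775390625 := by norm_num
  rw [e3, e4, e5, e6]
  have h := keyL (m := 601) (n := 313) (L := L5) (by
    intro pa hpa
    fin_cases hpa <;> norm_num) e1 (by norm_num) (by norm_num) checkF_five hd ha hb (by exact_mod_cast h1)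
    (by exact_mod_cast h2) (by omega)
  simp only [List.mem_cons, List.not_mem_nil, or_false] at h
  tauto

/-! ### `q = 7` -/

theorem checkF_seven : allDiv 86325573304608766361629193317905069834240001
    (tstL 86325573304608766361629193317905069834240001 2353 1201 2352 1200 [1, 191581231380566414401] [13841287201, 19141842597986304] [16277215393152]) L7 1 = true := by
  decide +kernel

theorem num_full_seven {d : ℕ} (hd : d ∣ ordF 7) {a b : ℤ} (ha : a = 1 ∨ a = -1) (hb : b = 1 ∨ b = -1)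
    (h1 : ((7 ^ 4 - 7 ^ 2 + 1 : ℕ) : ℤ) ∣ (d : ℤ) - a) (h2 : (((7 ^ 4 + 1) / 2 : ℕ) : ℤ) ∣ (d : ℤ) - b)
    (hK : d * d ≤ ordF 7) :
    (d = 1 ∧ a = 1 ∧ b = 1) ∨ (d = 7 ^ 12 ∧ a = 1 ∧ b = -1) ∨ (d = D2 7 ∧ a = -1 ∧ b = 1) ∨
      (d = D3 7 ∧ a = 1 ∧ b = -1) ∨ (d = 7 ^ 24 ∧ a = 1 ∧ b = 1) := by
  have e1 : ordF 7 = facProd L7 * (2353 * 1201) := by decide +kernel
  have e2 : ordF 7 + 1 = 86325573304608766361629193317905069834240001 := by decide +kernel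
  have e3 : D2 7 = 16277215393152 := by decide +kernel
  have e4 : (7 : ℕ) ^ 12 = 13841287201 := by norm_num
  have e5 : D3 7 = 19141842597986304 := by decide +kernel
  have e6 : (7 : ℕ) ^ 24 = 191581231380566414401 := by norm_num
  rw [e3, e4, e5, e6]
  have h := keyL (m := 2353) (n := 1201) (L := L7) (by
    intro pa hpa
    fin_cases hpa <;> norm_num) e1 (by norm_num) (by norm_num) checkF_seven hd ha hb (by exact_mod_cast h1)
    (by exact_mod_cast h2) (by omega)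
  simp only [List.mem_cons, List.not_mem_nil, or_false] at h
  tauto

/-- **The form for helper903.** -/
theorem num_full {q : ℕ} (hq : q = 5 ∨ q = 7) {d : ℕ} (hd : d ∣ ordF q) {a b : ℤ} (ha : a = 1 ∨ a = -1)
    (hb : b = 1 ∨ b = -1) (h1 : ((q ^ 4 - q ^ 2 + 1 : ℕ) : ℤ) ∣ (d : ℤ) - a)
    (h2 : (((q ^ 4 + 1) / 2 : ℕ) : ℤ) ∣ (d : ℤ) - b) (hK : d * d ≤ ordF q) :
    (d = 1 ∧ a = 1 ∧ b = 1) ∨ d = q ^ 12 ∨ (a * b = -1 ∧ D2 q ≤ d) ∨ (d = q ^ 24 ∧ a = 1 ∧ b = 1) := by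
  have e5 : D2 5 ≤ D3 5 := by decide +kernel
  have e7 : D2 7 ≤ D3 7 := by decide +kernel
  rcases hq with rfl | rfl
  · rcases num_full_five hd ha hb h1 h2 hK with h | h | h | h | h
    · exact Or.inl h
    · exact Or.inr (Or.inl h.1)
    · exact Or.inr (Or.inr (Or.inl ⟨by rw [h.2.1, h.2.2]; norm_num, h.1.ge⟩))
    · exact Or.inr (Or.inr (Or.inl ⟨by rw [h.2.1, h.2.2]; norm_num, h.1.symm ▸ e5⟩))
    · exact Or.inr (Or.inr (Or.inr h))
  · rcases num_full_seven hd ha hb h1 h2 hK with h | h | h | h | h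
    · exact Or.inl h
    · exact Or.inr (Or.inl h.1)
    · exact Or.inr (Or.inr (Or.inl ⟨by rw [h.2.1, h.2.2]; norm_num, h.1.ge⟩))
    · exact Or.inr (Or.inr (Or.inl ⟨by rw [h.2.1, h.2.2]; norm_num, h.1.symm ▸ e7⟩))
    · exact Or.inr (Or.inr (Or.inr h))

end Cfsg.Agent.H598.F4.Num
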