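import Cfsg.Agent.H653.Sieve.Check

/-!
# S2464, F4(5), F4(7), F4(17): the possible small degrees (helper598)

`d` divides `|F4(q)|`, `d ≡ ±1` modulo `q ^ 4 - q ^ 2 + 1` and modulo `(q ^ 4 + 1) / 2`, and `d ^ 2` is at most
`6 |C(u)|`, `u` a long root element: then `d` is `1`, `q ^ 12` or `q ^ 8 (q ^ 2 - 1) ^ 2 (q ^ 4 + q ^ 2 + 1) / 2`.

* `key` : the general lemma;
* `num_five`, `num_seven` (here), `num_seventeen` (`Num17.lean`).
-/

set_option autoImplicit false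

namespace Cfsg.Agent.H598.F4.Num

open Cfsg.Agent.H653.Sieve

/-- the order of `F4(q)` -/
def ordF (q : ℕ) : ℕ := q ^ 24 * (q ^ 2 - 1) * (q ^ 6 - 1) * (q ^ 8 - 1) * (q ^ 12 - 1)

/-- the order of the centralizer of a long root element -/
def cenL (q : ℕ) : ℕ := q ^ 24 * (q ^ 2 - 1) * (q ^ 4 - 1) * (q ^ 6 - 1)

/-- the middle degree which is not excluded -/
def D2 (q : ℕ) : ℕ := q ^ 8 * (q ^ 2 - 1) ^ 2 * (q ^ 4 + q ^ 2 + 1) / 2

/-- the test -/
def tst (N m n x y z w d : ℕ) : Bool :=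
  bif Nat.beq (Nat.mod d m) 1 then
    (bif Nat.beq (Nat.mod d n) 1 then (bif Nat.beq d 1 then true else Nat.ble N (Nat.mul d d))
    else bif Nat.beq (Nat.mod d n) y then (bif Nat.beq d z then true else Nat.ble N (Nat.mul d d)) else true)
  else bif Nat.beq (Nat.mod d m) x then
    (bif Nat.beq (Nat.mod d n) 1 then (bif Nat.beq d w then true else Nat.ble N (Nat.mul d d))
    else bif Nat.beq (Nat.mod d n) y then Nat.ble N (Nat.mul d d) else true)
  else true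

theorem mod_of_one {d m : ℕ} (hm : 2 < m) (h : (m : ℤ) ∣ (d : ℤ) - 1) : Nat.mod d m = 1 := by
  have h1 : (1 : ℕ) ≡ d [MOD m] := (Nat.modEq_iff_dvd).2 (by exact_mod_cast h)
  have h2 : 1 % m = d % m := h1
  rw [Nat.mod_eq_of_lt (by omega)] at h2
  exact h2.symm

theorem mod_of_neg {d m : ℕ} (hm : 2 < m) (h : (m : ℤ) ∣ (d : ℤ) - (-1)) : Nat.mod d m = m - 1 := by
  show d % m = m - 1
  have h1 : m ∣ d + 1 := by
    have : (m : ℤ) ∣ ((d + 1 : ℕ) : ℤ) := by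
      push_cast
      rwa [sub_neg_eq_add] at h
    exact_mod_cast this
  obtain ⟨k, hk⟩ := h1
  have hk0 : k ≠ 0 := by
    rintro rfl
    omega
  obtain ⟨j, rfl⟩ := Nat.exists_eq_succ_of_ne_zero hk0
  have h2 : d = (m - 1) + m * j := by
    rw [Nat.succ_eq_add_one, Nat.mul_add, Nat.mul_one] at hk
    omega
  rw [h2, Nat.add_mul_mod_self_left, Nat.mod_eq_of_lt (by omega)]

theorem coprime_of {d m : ℕ} {a : ℤ} (ha : a = 1 ∨ a = -1) (h : (m : ℤ) ∣ (d : ℤ) - a) : d.Coprime m := by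
  obtain ⟨k, hk⟩ := h
  have ha2 : a * a = 1 := by rcases ha with rfl | rfl <;> norm_num
  rw [← Nat.isCoprime_iff_coprime]
  refine ⟨a, -(k * a), ?_⟩
  have h1 : (d : ℤ) = a + m * k := by linarith
  rw [h1]
  linear_combination ha2

theorem tst_spec {B m n z w : ℕ} (hm : 2 < m) (hn : 2 < n) {d : ℕ} (h3 : tst B m n (m - 1) (n - 1) z w d = true)
    {a b : ℤ} (ha : a = 1 ∨ a = -1) (hb : b = 1 ∨ b = -1) (h1 : (m : ℤ) ∣ (d : ℤ) - a) (h2 : (n : ℤ) ∣ (d : ℤ) - b)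
    (hB : d * d < B) : (d = 1 ∧ a = 1 ∧ b = 1) ∨ (d = z ∧ a = 1 ∧ b = -1) ∨ (d = w ∧ a = -1 ∧ b = 1) := by
  have hble : Nat.ble B (Nat.mul d d) = false := by
    rw [Bool.eq_false_iff]
    intro h4
    exact absurd (Nat.le_of_ble_eq_true h4) (Nat.not_le.2 hB)
  have hne : ∀ k : ℕ, 2 < k → Nat.beq (k - 1) 1 = false := by
    intro k hk
    rw [Bool.eq_false_iff]
    intro h4
    have := Nat.eq_of_beq_eq_true h4
    omega
  unfold tst at h3
  rw [hble] at h3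
  rcases ha with rfl | rfl <;> rcases hb with rfl | rfl
  · rw [mod_of_one hm h1, mod_of_one hn h2] at h3
    left
    refine ⟨?_, rfl, rfl⟩
    cases h4 : Nat.beq d 1
    · have e : Nat.beq 1 1 = true := rfl
      rw [h4, e] at h3
      simp at h3
    · exact Nat.eq_of_beq_eq_true h4
  · rw [mod_of_one hm h1, mod_of_neg hn h2, hne n hn] at h3
    right; left
    refine ⟨?_, rfl, rfl⟩
    cases h4 : Nat.beq d z
    · rw [h4] at h3
      simp at h3
    · exact Nat.eq_of_beq_eq_true h4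
  · rw [mod_of_neg hm h1, mod_of_one hn h2, hne m hm] at h3
    right; right
    refine ⟨?_, rfl, rfl⟩
    cases h4 : Nat.beq d w
    · rw [h4] at h3
      simp at h3
    · exact Nat.eq_of_beq_eq_true h4
  · rw [mod_of_neg hm h1, mod_of_neg hn h2, hne m hm, hne n hn] at h3
    simp at h3

/-- **The general lemma.** -/
theorem key {N B m n z w : ℕ} {L : List (ℕ × ℕ)} (hL : ∀ pa ∈ L, pa.1.Prime) (hN : N = facProd L * (m * n))
    (hm : 2 < m) (hn : 2 < n) (hc : allDiv B (tst B m n (m - 1) (n - 1) z w) L 1 = true) {d : ℕ} (hd : d ∣ N)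
    {a b : ℤ} (ha : a = 1 ∨ a = -1) (hb : b = 1 ∨ b = -1) (h1 : (m : ℤ) ∣ (d : ℤ) - a) (h2 : (n : ℤ) ∣ (d : ℤ) - b)
    (hB : d * d < B) : (d = 1 ∧ a = 1 ∧ b = 1) ∨ (d = z ∧ a = 1 ∧ b = -1) ∨ (d = w ∧ a = -1 ∧ b = 1) := by
  have hd' : d ∣ facProd L := by
    rw [hN] at hd
    exact ((coprime_of ha h1).mul_right (coprime_of hb h2)).dvd_of_dvd_mul_right hd
  have h3 := allDiv_spec hL hc d hd' (by rwa [one_mul])
  rw [one_mul] at h3
  exact tst_spec hm hn h3 ha hb h1 h2 hB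

/-! ### `q = 5` -/

def L5 : List (ℕ × ℕ) := [(2, 15), (3, 6), (5, 24), (7, 2), (13, 2), (31, 2)]

theorem check_five : allDiv 83679565429687500000000001
    (tst 83679565429687500000000001 601 313 600 312 244140625 73237500000) L5 1 = true := by decide +kernel

theorem num_five {d : ℕ} (hd : d ∣ ordF 5) {a b : ℤ} (ha : a = 1 ∨ a = -1) (hb : b = 1 ∨ b = -1)
    (h1 : ((5 ^ 4 - 5 ^ 2 + 1 : ℕ) : ℤ) ∣ (d : ℤ) - a) (h2 : (((5 ^ 4 + 1) / 2 : ℕ) : ℤ) ∣ (d : ℤ) - b)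
    (hK : d * d ≤ 6 * cenL 5) :
    (d = 1 ∧ a = 1 ∧ b = 1) ∨ (d = 5 ^ 12 ∧ a = 1 ∧ b = -1) ∨ (d = D2 5 ∧ a = -1 ∧ b = 1) := by
  have e1 : ordF 5 = facProd L5 * (601 * 313) := by decide +kernel
  have e2 : 6 * cenL 5 + 1 = 83679565429687500000000001 := by decide +kernel
  have e3 : D2 5 = 73237500000 := by decide +kernel
  have e4 : (5 : ℕ) ^ 12 = 244140625 := by norm_num
  rw [e3, e4]
  refine key (m := 601) (n := 313) (L := L5) (by
    intro pa hpa
    fin_cases hpa <;> norm_num) e1 (by norm_num) (by norm_num) check_five hd ha hb (by exact_mod_cast h1)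
    (by exact_mod_cast h2) (by omega)

/-! ### `q = 7` -/

def L7 : List (ℕ × ℕ) := [(2, 19), (3, 6), (5, 4), (7, 24), (19, 2), (43, 2)]

theorem check_seven : allDiv 15579059587979358542825443737601
    (tst 15579059587979358542825443737601 2353 1201 2352 1200 13841287201 16277215393152) L7 1 = true := by
  decide +kernel

theorem num_seven {d : ℕ} (hd : d ∣ ordF 7) {a b : ℤ} (ha : a = 1 ∨ a = -1) (hb : b = 1 ∨ b = -1)
    (h1 : ((7 ^ 4 - 7 ^ 2 + 1 : ℕ) : ℤ) ∣ (d : ℤ) - a) (h2 : (((7 ^ 4 + 1) / 2 : ℕ) : ℤ) ∣ (d : ℤ) - b)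
    (hK : d * d ≤ 6 * cenL 7) :
    (d = 1 ∧ a = 1 ∧ b = 1) ∨ (d = 7 ^ 12 ∧ a = 1 ∧ b = -1) ∨ (d = D2 7 ∧ a = -1 ∧ b = 1) := by
  have e1 : ordF 7 = facProd L7 * (2353 * 1201) := by decide +kernel
  have e2 : 6 * cenL 7 + 1 = 15579059587979358542825443737601 := by decide +kernel
  have e3 : D2 7 = 16277215393152 := by decide +kernel
  have e4 : (7 : ℕ) ^ 12 = 13841287201 := by norm_num
  rw [e3, e4]
  refine key (m := 2353) (n := 1201) (L := L7) (by
    intro pa hpa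
    fin_cases hpa <;> norm_num) e1 (by norm_num) (by norm_num) check_seven hd ha hb (by exact_mod_cast h1)
    (by exact_mod_cast h2) (by omega)

end Cfsg.Agent.H598.F4.Num
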