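import Cfsg.Agent.H598.F4.NumOdd

/-!
# F4(17): the possible degrees, full range (helper598)
-/

set_option autoImplicit false

namespace Cfsg.Agent.H598.F4.Num

open Cfsg.Agent.H653.Sieve

/-! ### `q = 17` -/

def L17' : List (ℕ × ℕ) := [(2, 23), (3, 10), (5, 2), (7, 2), (13, 2), (29, 2), (307, 2)]

theorem check_seventeen : allDiv 9590440132159233174552896716076540692006700895727198264727961601
    (leafP 17 9590440132159233174552896716076540692006700895727198264727961601 24 83233 41761 83232 41760 12 [1, 339448671314611904643504117121] [582622237229761, 1009038391126530877292544] [24246406020044662272]) L17' 1 = true := by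
  decide +kernel

theorem num_full_seventeen {d : ℕ} (hd : d ∣ ordF 17) {a b : ℤ} (ha : a = 1 ∨ a = -1) (hb : b = 1 ∨ b = -1)
    (h1 : ((17 ^ 4 - 17 ^ 2 + 1 : ℕ) : ℤ) ∣ (d : ℤ) - a) (h2 : (((17 ^ 4 + 1) / 2 : ℕ) : ℤ) ∣ (d : ℤ) - b)
    (hK : d * d ≤ ordF 17) :
    (d = 1 ∧ a = 1 ∧ b = 1) ∨ (d = 17 ^ 12 ∧ a = 1 ∧ b = -1) ∨ (d = D2 17 ∧ a = -1 ∧ b = 1) ∨
      (d = D3 17 ∧ a = 1 ∧ b = -1) ∨ (d = 17 ^ 24 ∧ a = 1 ∧ b = 1) := by
  have e1 : ordF 17 = (17 ^ 24 * facProd L17') * (83233 * 41761) := by decide +kernel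
  have e2 : ordF 17 + 1 = 9590440132159233174552896716076540692006700895727198264727961601 := by decide +kernel
  have e3 : D2 17 = 24246406020044662272 := by decide +kernel
  have e4 : (17 : ℕ) ^ 12 = 582622237229761 := by norm_num
  have e5 : D3 17 = 1009038391126530877292544 := by decide +kernel
  have e6 : (17 : ℕ) ^ 24 = 339448671314611904643504117121 := by norm_num
  rw [e3, e4, e5, e6]
  have h := keyP (p := 17) (by norm_num) (m := 83233) (n := 41761) (L := L17') (t := 12) (by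
    intro pa hpa
    fin_cases hpa <;> norm_num) e1 (by norm_num) (by norm_num) (by decide +kernel) ⟨6, by norm_num⟩ check_seventeen hd ha hb
    (by exact_mod_cast h1) (by exact_mod_cast h2) (by omega)
  simp only [List.mem_cons, List.not_mem_nil, or_false] at h
  tauto

/-- **The form of `num_full`.** -/
theorem num_full_seventeen' {d : ℕ} (hd : d ∣ ordF 17) {a b : ℤ}
    (ha : a = 1 ∨ a = -1) (hb : b = 1 ∨ b = -1) (h1 : ((17 ^ 4 - 17 ^ 2 + 1 : ℕ) : ℤ) ∣ (d : ℤ) - a)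
    (h2 : (((17 ^ 4 + 1) / 2 : ℕ) : ℤ) ∣ (d : ℤ) - b) (hK : d * d ≤ ordF 17) :
    (d = 1 ∧ a = 1 ∧ b = 1) ∨ d = 17 ^ 12 ∨ (a * b = -1 ∧ D2 17 ≤ d) ∨ (d = 17 ^ 24 ∧ a = 1 ∧ b = 1) := by
  have e : D2 17 ≤ D3 17 := by decide +kernel
  rcases num_full_seventeen hd ha hb h1 h2 hK with h | h | h | h | h
  · exact Or.inl h
  · exact Or.inr (Or.inl h.1)
  · exact Or.inr (Or.inr (Or.inl ⟨by rw [h.2.1, h.2.2]; norm_num, h.1.ge⟩))
  · exact Or.inr (Or.inr (Or.inl ⟨by rw [h.2.1, h.2.2]; norm_num, h.1.symm ▸ e⟩))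
  · exact Or.inr (Or.inr (Or.inr h))

end Cfsg.Agent.H598.F4.Num
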